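import Mathlib

set_option autoImplicit false
universe u

namespace Groth.Agent.H8.T1BC

open CategoryTheory Abelian

section ext1

variable {R : Type u} [CommRing R] {C F Ω Y : Type u}
  [AddCommGroup C] [Module R C] [AddCommGroup F] [Module R F]
  [AddCommGroup Ω] [Module R Ω] [AddCommGroup Y] [Module R Y]

/-- `Ext¹(Ω, Y)` computed from a presentation `0 → C → F → Ω → 0` with `F` projective:
it is the cokernel of `Hom(F, Y) → Hom(C, Y)`. -/
theorem exists_ext_one_presentation [Module.Projective R F]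
    (i : C →ₗ[R] F) (π : F →ₗ[R] Ω) (hi : Function.Injective i) (hπ : Function.Surjective π)
    (hex : Function.Exact i π) :
    ∃ q : (C →ₗ[R] Y) →ₗ[R] Ext.{u} (ModuleCat.of R Ω) (ModuleCat.of R Y) 1,
      Function.Surjective q ∧ ∀ φ : C →ₗ[R] Y, q φ = 0 ↔ ∃ ψ : F →ₗ[R] Y, ψ ∘ₗ i = φ := by
  let S : ShortComplex (ModuleCat.{u} R) :=
    ModuleCat.shortComplexOfCompEqZero i π hex.linearMap_comp_eq_zero
  have hS : S.ShortExact := ModuleCat.shortComplex_shortExact S hex hi hπ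
  haveI : Projective S.X₂ := (ModuleCat.of R F).projective_of_categoryTheory_projective
  let YY : ModuleCat.{u} R := ModuleCat.of R Y
  let q : (C →ₗ[R] Y) →ₗ[R] Ext.{u} S.X₃ YY 1 :=
    { toFun := fun φ => hS.extClass.comp (Ext.mk₀ (ModuleCat.ofHom φ : S.X₁ ⟶ YY)) (add_zero 1)
      map_add' := fun φ ψ => by
        rw [show (ModuleCat.ofHom (φ + ψ) : S.X₁ ⟶ YY) = ModuleCat.ofHom φ + ModuleCat.ofHom ψ
          from rfl, Ext.mk₀_add, Ext.comp_add]
      map_smul' := fun r φ => by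
        rw [show (ModuleCat.ofHom (r • φ) : S.X₁ ⟶ YY) = r • ModuleCat.ofHom φ from rfl,
          Ext.mk₀_smul, Ext.comp_smul]
        rfl }
  refine ⟨q, ?_, ?_⟩
  · intro x₃
    have h0 : (Ext.mk₀ S.g).comp x₃ (zero_add 1) = 0 := Ext.eq_zero_of_projective _
    obtain ⟨x₁, hx₁⟩ := Ext.contravariant_sequence_exact₃ hS YY x₃ h0 (add_zero 1)
    refine ⟨(Ext.homEquiv₀ x₁).hom, ?_⟩
    show hS.extClass.comp (Ext.mk₀ (ModuleCat.ofHom (Ext.homEquiv₀ x₁).hom)) (add_zero 1) = x₃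
    rw [ModuleCat.ofHom_hom, Ext.mk₀_homEquiv₀_apply]
    exact hx₁
  · intro φ
    constructor
    · intro h
      obtain ⟨x₂, hx₂⟩ := Ext.contravariant_sequence_exact₁ hS YY
        (Ext.mk₀ (ModuleCat.ofHom φ : S.X₁ ⟶ YY)) (add_zero 1) h
      refine ⟨(Ext.homEquiv₀ x₂).hom, ?_⟩
      rw [← Ext.mk₀_homEquiv₀_apply x₂, Ext.mk₀_comp_mk₀] at hx₂
      have h1 := (Ext.mk₀_bijective _ _).1 hx₂
      exact congrArg ModuleCat.Hom.hom h1
    · rintro ⟨ψ, rfl⟩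
      show hS.extClass.comp (Ext.mk₀ (ModuleCat.ofHom (ψ ∘ₗ i) : S.X₁ ⟶ YY)) (add_zero 1) = 0
      have h1 : (ModuleCat.ofHom (ψ ∘ₗ i) : S.X₁ ⟶ YY) = S.f ≫ (ModuleCat.ofHom ψ : S.X₂ ⟶ YY) :=
        rfl
      rw [h1, ← Ext.mk₀_comp_mk₀]
      exact hS.extClass_comp_assoc _

end ext1

end Groth.Agent.H8.T1BC
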