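import Mathlib

set_option autoImplicit false
universe u

namespace Groth.Agent.H8.T1BC

open TensorProduct

section dualBC

variable {R : Type*} [CommRing R] (Q : Type*) [CommRing Q] [Algebra R Q]

section defs

variable (M : Type*) [AddCommGroup M] [Module R M]

/-- the natural map `Q ⊗ M^∨ → (Q ⊗ M)^∨`. -/
noncomputable def dualBC : Q ⊗[R] Module.Dual R M →ₗ[Q] Module.Dual Q (Q ⊗[R] M) :=
  LinearMap.liftBaseChange Q (Module.Dual.baseChange Q)

lemma dualBC_tmul (a : Q) (f : Module.Dual R M) (b : Q) (v : M) :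
    dualBC (R := R) Q M (a ⊗ₜ[R] f) (b ⊗ₜ[R] v) = a * (f v • b) := by
  rw [dualBC, LinearMap.liftBaseChange_tmul, LinearMap.smul_apply,
    Module.Dual.baseChange_apply_tmul, smul_eq_mul]

lemma dualBC_bijective_of_free [Module.Free R M] [Module.Finite R M] :
    Function.Bijective (dualBC (R := R) Q M) := by
  have h : dualBC (R := R) Q M = ((TensorProduct.isBaseChange R M Q).toDualBaseChange :
      Q ⊗[R] Module.Dual R M →ₗ[Q] Module.Dual Q (Q ⊗[R] M)) := by
    apply TensorProduct.AlgebraTensorModule.ext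
    intro a f
    apply TensorProduct.AlgebraTensorModule.ext
    intro b v
    have h1 := (TensorProduct.isBaseChange R M Q).toDualBaseChange_tmul a f v
    have h2 : b ⊗ₜ[R] v = b • ((TensorProduct.mk R Q M 1) v) := by
      rw [TensorProduct.mk_apply, TensorProduct.smul_tmul', smul_eq_mul, mul_one]
    rw [dualBC_tmul, LinearEquiv.coe_coe, h2, map_smul, h1, Algebra.smul_def, smul_eq_mul]
    ring
  rw [h]
  exact (TensorProduct.isBaseChange R M Q).toDualBaseChange.bijective

end defs

section nat

variable {M N : Type*} [AddCommGroup M] [Module R M] [AddCommGroup N] [Module R N]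

lemma dualBC_naturality (g : M →ₗ[R] N) :
    (g.baseChange Q).dualMap ∘ₗ dualBC (R := R) Q N = dualBC (R := R) Q M ∘ₗ g.dualMap.baseChange Q := by
  apply TensorProduct.AlgebraTensorModule.ext
  intro a f
  apply TensorProduct.AlgebraTensorModule.ext
  intro b v
  rw [LinearMap.comp_apply, LinearMap.comp_apply, LinearMap.dualMap_apply,
    LinearMap.baseChange_tmul, LinearMap.baseChange_tmul, dualBC_tmul, dualBC_tmul,
    LinearMap.dualMap_apply]

lemma dualBC_naturality_apply (g : M →ₗ[R] N) (z : Q ⊗[R] Module.Dual R N) :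
    (g.baseChange Q).dualMap (dualBC (R := R) Q N z) = dualBC (R := R) Q M (g.dualMap.baseChange Q z) :=
  LinearMap.congr_fun (dualBC_naturality Q g) z

end nat

variable (M : Type*) [AddCommGroup M] [Module R M]

/-- for a finite projective module, duals commute with base change. -/
theorem dualBC_bijective [Module.Finite R M] [Module.Projective R M] :
    Function.Bijective (dualBC (R := R) Q M) := by
  obtain ⟨n, f, g, -, -, hfg⟩ := Module.Finite.exists_comp_eq_id_of_projective R M
  have hfree : Function.Bijective (dualBC (R := R) Q (Fin n → R)) := dualBC_bijective_of_free Q _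
  have key : ∀ z : Q ⊗[R] Module.Dual R M,
      (g.dualMap.baseChange Q) ((f.dualMap.baseChange Q) z) = z := by
    intro z
    rw [← LinearMap.comp_apply, ← LinearMap.baseChange_comp, LinearMap.dualMap_comp_dualMap,
      hfg, LinearMap.dualMap_id, LinearMap.baseChange_id, LinearMap.id_apply]
  have key' : ∀ y : Module.Dual Q (Q ⊗[R] M),
      (g.baseChange Q).dualMap ((f.baseChange Q).dualMap y) = y := by
    intro y
    rw [← LinearMap.comp_apply, LinearMap.dualMap_comp_dualMap, ← LinearMap.baseChange_comp,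
      hfg, LinearMap.baseChange_id, LinearMap.dualMap_id, LinearMap.id_apply]
  constructor
  · intro x y hxy
    have h1 : dualBC (R := R) Q (Fin n → R) (f.dualMap.baseChange Q x) =
        dualBC (R := R) Q (Fin n → R) (f.dualMap.baseChange Q y) := by
      rw [← dualBC_naturality_apply, ← dualBC_naturality_apply, hxy]
    have h2 := hfree.1 h1
    rw [← key x, ← key y, h2]
  · intro y
    obtain ⟨z, hz⟩ := hfree.2 ((f.baseChange Q).dualMap y)
    refine ⟨(g.dualMap.baseChange Q) z, ?_⟩
    rw [← dualBC_naturality_apply, hz, key']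

end dualBC

section assemble

variable {R : Type*} [CommRing R] {Q : Type*} [CommRing Q] [Algebra R Q]
  {X Y T : Type*} [AddCommGroup X] [Module R X] [AddCommGroup Y] [Module R Y]
  [AddCommGroup T] [Module R T]
  {X' Y' T' : Type*} [AddCommGroup X'] [Module Q X'] [AddCommGroup Y'] [Module Q Y']
  [AddCommGroup T'] [Module Q T']

/-- base change of a cokernel presentation. -/
theorem nonempty_baseChange_equiv_of_presentations
    (φ : X →ₗ[R] Y) (q : Y →ₗ[R] T) (hq : Function.Surjective q) (hex : Function.Exact φ q)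
    (φ' : X' →ₗ[Q] Y') (q' : Y' →ₗ[Q] T') (hq' : Function.Surjective q')
    (hex' : Function.Exact φ' q')
    (α : Q ⊗[R] X →ₗ[Q] X') (β : Q ⊗[R] Y →ₗ[Q] Y') (hα : Function.Surjective α)
    (hβ : Function.Bijective β) (hcomm : φ' ∘ₗ α = β ∘ₗ φ.baseChange Q) :
    Nonempty (Q ⊗[R] T ≃ₗ[Q] T') := by
  let Q₀ : Q ⊗[R] Y →ₗ[Q] Q ⊗[R] T := q.baseChange Q
  let Q₁ : Q ⊗[R] Y →ₗ[Q] T' := q' ∘ₗ β
  have h₀ : Function.Surjective Q₀ := by
    show Function.Surjective (q.baseChange Q)
    rw [LinearMap.baseChange_eq_ltensor]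
    exact LinearMap.lTensor_surjective Q hq
  have h₁ : Function.Surjective Q₁ := hq'.comp hβ.2
  have hex₀ : Function.Exact (φ.baseChange Q) Q₀ := by
    show Function.Exact (φ.baseChange Q) (q.baseChange Q)
    rw [LinearMap.baseChange_eq_ltensor, LinearMap.baseChange_eq_ltensor]
    exact lTensor_exact Q hex hq
  have hker : LinearMap.ker Q₀ = LinearMap.ker Q₁ := by
    ext x
    rw [LinearMap.mem_ker, LinearMap.mem_ker]
    refine (hex₀ x).trans (Iff.trans ?_ (hex' (β x)).symm)
    constructor
    · rintro ⟨z, rfl⟩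
      exact ⟨α z, LinearMap.congr_fun hcomm z⟩
    · rintro ⟨x', hx'⟩
      obtain ⟨z, rfl⟩ := hα x'
      refine ⟨z, hβ.1 ?_⟩
      rw [← hx']
      exact (LinearMap.congr_fun hcomm z).symm
  exact ⟨(Q₀.quotKerEquivOfSurjective h₀).symm ≪≫ₗ (Submodule.quotEquivOfEq _ _ hker) ≪≫ₗ
    Q₁.quotKerEquivOfSurjective h₁⟩

end assemble

end Groth.Agent.H8.T1BC
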