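import Mathlib
import Groth.Agent.Lib.Helper8.Hens.Fibre

set_option autoImplicit false
universe u

namespace Groth.Agent.H8.T1BC

open TensorProduct

section locsplit

variable {R : Type*} [CommRing R] {C F Ω : Type*} [AddCommGroup C] [Module R C]
  [AddCommGroup F] [Module R F] [AddCommGroup Ω] [Module R Ω]

/-- A short exact sequence whose cokernel is locally projective at `S` admits a retraction
up to an element of `S`. -/
theorem exists_local_retraction [Module.Finite R C] [Module.FinitePresentation R F]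
    (i : C →ₗ[R] F) (π : F →ₗ[R] Ω) (hi : Function.Injective i) (hπ : Function.Surjective π)
    (hex : Function.Exact i π) (S : Submonoid R)
    [Module.Projective (Localization S) (LocalizedModule S Ω)] :
    ∃ (ρ : F →ₗ[R] C) (s : R), s ∈ S ∧ ρ ∘ₗ i = s • LinearMap.id := by
  let iS := LocalizedModule.map S i
  let πS := LocalizedModule.map S π
  have hiS : Function.Injective iS := LocalizedModule.map_injective S i hi
  have hπS : Function.Surjective πS := LocalizedModule.map_surjective S π hπ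
  have hexS : Function.Exact iS πS := LocalizedModule.map_exact S i π hex
  obtain ⟨l, hl⟩ := Module.projective_lifting_property πS LinearMap.id hπS
  have htf := (hexS.split_tfae').out 0 1
  obtain ⟨-, r, hr⟩ := htf.mp ⟨hiS, l, hl⟩
  let ℓC := LocalizedModule.mkLinearMap S C
  let ℓF := LocalizedModule.mkLinearMap S F
  obtain ⟨ρ₀, s₀, h₀⟩ := Module.FinitePresentation.exists_lift_of_isLocalizedModule S ℓC
    ((r.restrictScalars R) ∘ₗ ℓF)
  have h1 : ℓC ∘ₗ (ρ₀ ∘ₗ i) = ℓC ∘ₗ ((s₀ : R) • LinearMap.id) := by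
    refine LinearMap.ext fun x => ?_
    have h2 := LinearMap.congr_fun h₀ (i x)
    have h3 : ℓF (i x) = iS (ℓC x) := by
      show LocalizedModule.mk (i x) 1 = LocalizedModule.map S i (LocalizedModule.mk x 1)
      rw [LocalizedModule.map_mk]
    have h4 : r (iS (ℓC x)) = ℓC x := LinearMap.congr_fun hr (ℓC x)
    rw [LinearMap.comp_apply, LinearMap.comp_apply]
    rw [LinearMap.comp_apply] at h2
    rw [h2, LinearMap.smul_apply, LinearMap.comp_apply, LinearMap.restrictScalars_apply, h3, h4,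
      LinearMap.comp_apply, LinearMap.smul_apply, LinearMap.id_apply, map_smul]
    rfl
  obtain ⟨s₁, hs₁⟩ := Module.Finite.exists_smul_of_comp_eq_of_isLocalizedModule S ℓC _ _ h1
  refine ⟨(s₁ : R) • ρ₀, (s₁ : R) * (s₀ : R), S.mul_mem s₁.2 s₀.2, ?_⟩
  rw [LinearMap.smul_comp, mul_smul]
  exact hs₁

/-- injectivity of `C/𝔞C → F/𝔞F` from retractions at the associated primes of `R/𝔞`. -/
theorem baseChange_injective_of_local_retractions [IsNoetherianRing R] (𝔞 : Ideal R)
    [Module.Finite R C] [Module.Projective R C] (i : C →ₗ[R] F)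
    (hloc : ∀ 𝔮' ∈ associatedPrimes (R ⧸ 𝔞) (R ⧸ 𝔞), ∃ (ρ : F →ₗ[R] C) (s : R),
      s ∉ Ideal.comap (Ideal.Quotient.mk 𝔞) 𝔮' ∧ ρ ∘ₗ i = s • LinearMap.id) :
    Function.Injective (i.baseChange (R ⧸ 𝔞)) := by
  rw [← LinearMap.ker_eq_bot]
  by_contra hne
  have hnt : Nontrivial (LinearMap.ker (i.baseChange (R ⧸ 𝔞))) :=
    Submodule.nontrivial_iff_ne_bot.mpr hne
  obtain ⟨𝔮', h𝔮'⟩ := associatedPrimes.nonempty (R ⧸ 𝔞) (LinearMap.ker (i.baseChange (R ⧸ 𝔞)))
  have h2 : 𝔮' ∈ associatedPrimes (R ⧸ 𝔞) ((R ⧸ 𝔞) ⊗[R] C) :=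
    associatedPrimes.subset_of_injective (f := (LinearMap.ker (i.baseChange (R ⧸ 𝔞))).subtype)
      (Submodule.injective_subtype _) h𝔮'
  have h3 : 𝔮' ∈ associatedPrimes (R ⧸ 𝔞) (R ⧸ 𝔞) :=
    Groth.Agent.H8.Hens.mem_associatedPrimes_self_of_flat h2
  obtain ⟨ρ, s, hs, hρ⟩ := hloc 𝔮' h3
  obtain ⟨-, x, hx⟩ := isAssociatedPrime_iff.mp h𝔮'
  apply hs
  rw [Ideal.mem_comap, hx, Submodule.mem_colon_singleton, Submodule.mem_bot]
  apply Subtype.ext
  have hcomp : (ρ.baseChange (R ⧸ 𝔞)) ∘ₗ (i.baseChange (R ⧸ 𝔞)) =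
      (Ideal.Quotient.mk 𝔞 s) • LinearMap.id := by
    rw [← LinearMap.baseChange_comp, hρ, LinearMap.baseChange_smul, LinearMap.baseChange_id]
    refine LinearMap.ext fun y => ?_
    show s • y = (Ideal.Quotient.mk 𝔞 s) • y
    exact (algebraMap_smul (R ⧸ 𝔞) s y).symm
  have h4 := LinearMap.congr_fun hcomp x.1
  rw [LinearMap.comp_apply, LinearMap.mem_ker.mp x.2, map_zero] at h4
  exact h4.symm

end locsplit

end Groth.Agent.H8.T1BC
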