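import Mathlib
import Groth.Prelude
import Groth.Agent.Lib.Helper8.H1LCI.Main
import Groth.Agent.Lib.Helper8.T1BC.Ext1
import Groth.Agent.Lib.Helper8.T1BC.DualBC
import Groth.Agent.Lib.Helper8.T1BC.LocSplit

/-!
# Base change of `T¹ = Ext¹(Ω_{P/A}, P)` along `A → A/J` for flat lci algebras with
generically smooth fibres (S18124)
-/

set_option autoImplicit false
universe u
open CategoryTheory

namespace Groth.Agent.H8.T1BC

open TensorProduct

section quot

attribute [local instance] Algebra.TensorProduct.rightAlgebra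

/-- the quotient `P/JP` of a flat lci `A`-algebra is lci over `A/J`. -/
theorem isLCI_quotient_map {A P : Type u} [CommRing A] [CommRing P] [Algebra A P]
    [Module.Flat A P] (h : LCI.IsLCI A P) (J : Ideal A) :
    LCI.IsLCI (A ⧸ J) (P ⧸ J.map (algebraMap A P)) := by
  have h1 : LCI.IsLCI (A ⧸ J) (P ⊗[A] (A ⧸ J)) := Groth.Agent.H4.KF2.isLCI_baseChange h
  let e : (P ⊗[A] (A ⧸ J)) ≃ₐ[A ⧸ J] ((A ⧸ J) ⊗[A] P) :=
    AlgEquiv.ofRingEquiv (f := (Algebra.TensorProduct.comm A P (A ⧸ J)).toRingEquiv)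
      (fun c => by
        show (Algebra.TensorProduct.comm A P (A ⧸ J)) ((1 : P) ⊗ₜ[A] c) = _
        rw [Algebra.TensorProduct.comm_tmul, Algebra.TensorProduct.algebraMap_apply]
        rfl)
  have h2 : LCI.IsLCI (A ⧸ J) ((A ⧸ J) ⊗[A] P) := Groth.Agent.H8.LCIHom.isLCI_of_algEquiv e h1
  exact Groth.Agent.H8.LCIHom.isLCI_of_algEquiv
    (Algebra.TensorProduct.quotIdealMapEquivQuotTensor P J).symm h2

end quot

theorem flat_quotient_map {A P : Type u} [CommRing A] [CommRing P] [Algebra A P]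
    [Module.Flat A P] (J : Ideal A) :
    Module.Flat (A ⧸ J) (P ⧸ J.map (algebraMap A P)) :=
  Module.Flat.of_linearEquiv (Algebra.TensorProduct.quotIdealMapEquivQuotTensor P J).toLinearEquiv

/-- `Ω_{(P/JP)/A} = (P/JP) ⊗_P Ω_{P/A}`. -/
theorem mapBaseChange_bijective_quotient_map (A P : Type u) [CommRing A] [CommRing P]
    [Algebra A P] (J : Ideal A) :
    Function.Bijective
      (KaehlerDifferential.mapBaseChange A P (P ⧸ J.map (algebraMap A P))) := by
  have hs : Function.Surjective (algebraMap P (P ⧸ J.map (algebraMap A P))) :=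
    Ideal.Quotient.mk_surjective
  have hzero : ∀ z ∈ J.map (algebraMap A P),
      (1 : P ⧸ J.map (algebraMap A P)) ⊗ₜ[P] KaehlerDifferential.D A P z = 0 := by
    intro z hz
    refine Submodule.span_induction (p := fun z _ =>
      (1 : P ⧸ J.map (algebraMap A P)) ⊗ₜ[P] KaehlerDifferential.D A P z = 0) ?_ ?_ ?_ ?_ hz
    · rintro _ ⟨a, -, rfl⟩
      rw [Derivation.map_algebraMap, TensorProduct.tmul_zero]
    · rw [map_zero, TensorProduct.tmul_zero]
    · intro x y _ _ hx hy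
      rw [map_add, TensorProduct.tmul_add, hx, hy, add_zero]
    · intro p w hw ih
      rw [smul_eq_mul, Derivation.leibniz, TensorProduct.tmul_add, TensorProduct.tmul_smul, ih,
        smul_zero, zero_add, ← TensorProduct.smul_tmul, Algebra.smul_def, mul_one,
        Ideal.Quotient.algebraMap_eq,
        (show Ideal.Quotient.mk (Ideal.map (algebraMap A P) J) w = 0 from
          Ideal.Quotient.eq_zero_iff_mem.mpr hw),
        TensorProduct.zero_tmul]
  refine ⟨?_, KaehlerDifferential.mapBaseChange_surjective A P _ hs⟩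
  rw [injective_iff_map_eq_zero]
  intro x hx
  have hex := KaehlerDifferential.exact_kerCotangentToTensor_mapBaseChange A P
    (P ⧸ J.map (algebraMap A P)) hs
  obtain ⟨c, rfl⟩ := (hex x).mp hx
  obtain ⟨y, rfl⟩ := Ideal.toCotangent_surjective _ c
  rw [KaehlerDifferential.kerCotangentToTensor_toCotangent]
  apply hzero
  have hy : Ideal.Quotient.mk (J.map (algebraMap A P)) (y : P) = 0 := RingHom.mem_ker.mp y.2
  exact Ideal.Quotient.eq_zero_iff_mem.mp hy

section main

open MvPolynomial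

variable (A : Type u) [CommRing A] [IsNoetherianRing A]
    (P : Type u) [CommRing P] [Algebra A P] [Module.Flat A P] (J : Ideal A)

local notation "𝔞" => Ideal.map (algebraMap A P) J

theorem main (hlci : LCI.IsLCI A P)
    (hgs : ∀ 𝔓 : PrimeSpectrum P,
      (∀ 𝔔 : PrimeSpectrum P, 𝔔 ≤ 𝔓 →
          𝔔.asIdeal.comap (algebraMap A P) = 𝔓.asIdeal.comap (algebraMap A P) → 𝔔 = 𝔓) →
        𝔓 ∈ Algebra.smoothLocus A P) :
    Nonempty
      ((P ⧸ 𝔞) ⊗[P]
          Abelian.Ext.{u} (ModuleCat.of P (KaehlerDifferential A P)) (ModuleCat.of P P) 1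
        ≃ₗ[P ⧸ 𝔞]
        Abelian.Ext.{u}
          (ModuleCat.of (P ⧸ 𝔞) (KaehlerDifferential A (P ⧸ 𝔞)))
          (ModuleCat.of (P ⧸ 𝔞) (P ⧸ 𝔞)) 1) := by
  obtain ⟨hft, n, f, hf, hK⟩ := id hlci
  haveI := hft
  haveI : IsNoetherianRing P := Algebra.FiniteType.isNoetherianRing A P
  -- the presentation
  have hfe : ∀ x, MvPolynomial.aeval (fun i => f (X i)) x = f x := fun x =>
    (AlgHom.congr_fun (MvPolynomial.aeval_unique f) x).symm
  have hsurj : Function.Surjective (MvPolynomial.aeval (R := A) (fun i => f (X i))) := by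
    intro b
    obtain ⟨x, rfl⟩ := hf b
    exact ⟨x, hfe x⟩
  let G : Algebra.Generators A P (Fin n) := Algebra.Generators.ofSurjective _ hsurj
  let E := G.toExtension
  have hker : E.ker = RingHom.ker f.toRingHom := by
    ext x
    show algebraMap E.Ring P x = 0 ↔ f x = 0
    rw [show algebraMap E.Ring P x = f x from hfe x]
  have hK' : LCI.IsKoszulRegularIdeal E.ker := hker ▸ hK
  haveI : Module.Projective (E.Ring ⧸ E.ker) E.ker.Cotangent :=
    Groth.Agent.H8.LCI.projective_cotangent_of_isKoszulRegularIdeal hK'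
  haveI : Module.Projective P E.Cotangent :=
    Groth.Agent.H8.LCI.projective_extCotangent_of_projective E
  -- the conormal sequence is short exact
  have hH1 : Subsingleton (Algebra.H1Cotangent A P) :=
    Groth.Agent.H8.H1LCI.subsingleton_h1Cotangent A P hlci hgs
  have hH1' : Subsingleton (LinearMap.ker E.cotangentComplex) :=
    G.equivH1Cotangent.toEquiv.subsingleton
  let i : E.Cotangent →ₗ[P] E.CotangentSpace := E.cotangentComplex
  let π : E.CotangentSpace →ₗ[P] Ω[P⁄A] := E.toKaehler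
  have hi : Function.Injective i := by
    rw [injective_iff_map_eq_zero]
    intro x hx
    exact congrArg Subtype.val
      (Subsingleton.elim (⟨x, hx⟩ : LinearMap.ker E.cotangentComplex) 0)
  have hπ : Function.Surjective π := E.toKaehler_surjective
  have hex : Function.Exact i π := E.exact_cotangentComplex_toKaehler
  haveI : Module.Free P E.CotangentSpace := Module.Free.of_basis G.cotangentSpaceBasis
  haveI : Module.Finite P E.CotangentSpace := Module.Finite.of_basis G.cotangentSpaceBasis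
  haveI : Module.Finite P E.Cotangent := Module.Finite.of_injective i hi
  haveI : Module.FinitePresentation P E.CotangentSpace :=
    Module.finitePresentation_of_projective P _
  -- the quotient
  have hlciQ : LCI.IsLCI (A ⧸ J) (P ⧸ 𝔞) := isLCI_quotient_map hlci J
  haveI : Module.Flat (A ⧸ J) (P ⧸ 𝔞) := flat_quotient_map J
  -- injectivity after base change
  have hinj : Function.Injective (i.baseChange (P ⧸ 𝔞)) := by
    apply baseChange_injective_of_local_retractions 𝔞 i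
    intro 𝔮' h𝔮'
    haveI : 𝔮'.IsPrime := h𝔮'.1
    haveI h𝔮pr : (Ideal.comap (Ideal.Quotient.mk 𝔞) 𝔮').IsPrime := Ideal.comap_isPrime _ _
    have h𝔞𝔮 : 𝔞 ≤ Ideal.comap (Ideal.Quotient.mk 𝔞) 𝔮' := by
      intro x hx
      rw [Ideal.mem_comap, Ideal.Quotient.eq_zero_iff_mem.mpr hx]
      exact 𝔮'.zero_mem
    have hsm : (⟨Ideal.comap (Ideal.Quotient.mk 𝔞) 𝔮', h𝔮pr⟩ : PrimeSpectrum P) ∈
        Algebra.smoothLocus A P := by
      apply hgs
      intro 𝔔 hle hc
      have hle0 : 𝔔.asIdeal ≤ Ideal.comap (Ideal.Quotient.mk 𝔞) 𝔮' := hle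
      have hc' : 𝔔.asIdeal.comap (algebraMap A P) =
          (Ideal.comap (Ideal.Quotient.mk 𝔞) 𝔮').comap (algebraMap A P) := hc
      have hJ𝔔 : 𝔞 ≤ 𝔔.asIdeal := by
        rw [Ideal.map_le_iff_le_comap, hc']
        exact Ideal.map_le_iff_le_comap.mp h𝔞𝔮
      have hcm : (𝔔.asIdeal.map (Ideal.Quotient.mk 𝔞)).comap (Ideal.Quotient.mk 𝔞) =
          𝔔.asIdeal := by
        rw [Ideal.comap_map_of_surjective _ Ideal.Quotient.mk_surjective,
          ← RingHom.ker_eq_comap_bot, Ideal.mk_ker, sup_eq_left]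
        exact hJ𝔔
      haveI : (𝔔.asIdeal.map (Ideal.Quotient.mk 𝔞)).IsPrime :=
        Ideal.map_isPrime_of_surjective Ideal.Quotient.mk_surjective
          (by rw [Ideal.mk_ker]; exact hJ𝔔)
      have hle' : 𝔔.asIdeal.map (Ideal.Quotient.mk 𝔞) ≤ 𝔮' := by
        rw [Ideal.map_le_iff_le_comap]
        exact hle0
      have hcomp : (algebraMap (A ⧸ J) (P ⧸ 𝔞)).comp (Ideal.Quotient.mk J) =
          (Ideal.Quotient.mk 𝔞).comp (algebraMap A P) := RingHom.ext fun a => rfl
      have hcomap' : (𝔔.asIdeal.map (Ideal.Quotient.mk 𝔞)).comap (algebraMap (A ⧸ J) (P ⧸ 𝔞)) =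
          𝔮'.comap (algebraMap (A ⧸ J) (P ⧸ 𝔞)) := by
        apply Ideal.comap_injective_of_surjective (Ideal.Quotient.mk J)
          Ideal.Quotient.mk_surjective
        rw [Ideal.comap_comap, Ideal.comap_comap, hcomp, ← Ideal.comap_comap,
          ← Ideal.comap_comap, hcm]
        exact hc'
      have heq : 𝔔.asIdeal.map (Ideal.Quotient.mk 𝔞) = 𝔮' :=
        Groth.Agent.H8.H1LCI.eq_of_le_of_mem_associatedPrimes hlciQ 𝔮' _ h𝔮' hle' hcomap'
      apply PrimeSpectrum.ext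
      show 𝔔.asIdeal = Ideal.comap (Ideal.Quotient.mk 𝔞) 𝔮'
      rw [← hcm, heq]
    rw [Algebra.smoothLocus_eq_compl_support_inter] at hsm
    have hfree := Module.mem_freeLocus.mp hsm.2
    haveI : Module.Projective (Localization (Ideal.comap (Ideal.Quotient.mk 𝔞) 𝔮').primeCompl)
        (LocalizedModule (Ideal.comap (Ideal.Quotient.mk 𝔞) 𝔮').primeCompl Ω[P⁄A]) :=
      @Module.Projective.of_free _ _ _ _ _ hfree
    obtain ⟨ρ, s, hs, hρ⟩ := exists_local_retraction i π hi hπ hex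
      (Ideal.comap (Ideal.Quotient.mk 𝔞) 𝔮').primeCompl
    exact ⟨ρ, s, hs, hρ⟩
  -- the base-changed sequence
  obtain ⟨hθi, hθs⟩ := mapBaseChange_bijective_quotient_map A P J
  let θ : (P ⧸ 𝔞) ⊗[P] Ω[P⁄A] →ₗ[P ⧸ 𝔞] Ω[(P ⧸ 𝔞)⁄A] :=
    KaehlerDifferential.mapBaseChange A P (P ⧸ 𝔞)
  let π' : (P ⧸ 𝔞) ⊗[P] E.CotangentSpace →ₗ[P ⧸ 𝔞] Ω[(P ⧸ 𝔞)⁄A] :=
    θ ∘ₗ π.baseChange (P ⧸ 𝔞)
  have hπbs : Function.Surjective (π.baseChange (P ⧸ 𝔞)) := by
    rw [LinearMap.baseChange_eq_ltensor]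
    exact LinearMap.lTensor_surjective _ hπ
  have hπ' : Function.Surjective π' := hθs.comp hπbs
  have hexbc : Function.Exact (i.baseChange (P ⧸ 𝔞)) (π.baseChange (P ⧸ 𝔞)) := by
    rw [LinearMap.baseChange_eq_ltensor, LinearMap.baseChange_eq_ltensor]
    exact lTensor_exact _ hex hπ
  have hex' : Function.Exact (i.baseChange (P ⧸ 𝔞)) π' := by
    intro y
    rw [← hexbc y]
    show θ (π.baseChange (P ⧸ 𝔞) y) = 0 ↔ _
    constructor
    · intro h
      exact hθi (h.trans (map_zero θ).symm)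
    · intro h
      rw [h, map_zero]
  -- the two presentations of `Ext¹`
  obtain ⟨q, hqs, hqk⟩ := exists_ext_one_presentation (Y := P) i π hi hπ hex
  obtain ⟨q', hqs', hqk'⟩ := exists_ext_one_presentation (R := P ⧸ 𝔞) (Y := P ⧸ 𝔞)
    (i.baseChange (P ⧸ 𝔞)) π' hinj hπ' hex'
  have hexq : Function.Exact i.dualMap q := fun φ =>
    (hqk φ).trans ⟨fun ⟨ψ, h⟩ => ⟨ψ, h⟩, fun ⟨ψ, h⟩ => ⟨ψ, h⟩⟩
  have hexq' : Function.Exact (i.baseChange (P ⧸ 𝔞)).dualMap q' := fun φ =>
    (hqk' φ).trans ⟨fun ⟨ψ, h⟩ => ⟨ψ, h⟩, fun ⟨ψ, h⟩ => ⟨ψ, h⟩⟩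
  exact nonempty_baseChange_equiv_of_presentations i.dualMap q hqs hexq
    (i.baseChange (P ⧸ 𝔞)).dualMap q' hqs' hexq'
    (dualBC (R := P) (P ⧸ 𝔞) E.CotangentSpace) (dualBC (R := P) (P ⧸ 𝔞) E.Cotangent)
    (dualBC_bijective (R := P) (P ⧸ 𝔞) E.CotangentSpace).2
    (dualBC_bijective (R := P) (P ⧸ 𝔞) E.Cotangent)
    (dualBC_naturality (R := P) (P ⧸ 𝔞) i)

end main

end Groth.Agent.H8.T1BC
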